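import Groth.Agent.Lib.CKaehlerFree3.GenRank
import Mathlib.RingTheory.ZariskisMainTheorem
import Mathlib.RingTheory.EssentialFiniteness
import Mathlib.RingTheory.Ideal.KrullsHeightTheorem

/-!
# Primes with quasi-finite quotient off the closed fibre
-/

universe u

open IsLocalRing

namespace Groth.Agent.QFQuot4

variable {A B : Type u} [CommRing A] [CommRing B] [IsLocalRing A] [IsLocalRing B] [IsNoetherianRing A]
  [Algebra A B] [IsLocalHom (algebraMap A B)] [Algebra.EssFiniteType A B]
  [Module.Finite (ResidueField A) (ResidueField B)]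

/-- A local algebra essentially of finite type with finite artinian closed fibre is quasi-finite. -/
theorem quasiFinite_of_artinian_closed_fibre
    (h : IsArtinianRing (B ⧸ (maximalIdeal A).map (algebraMap A B))) : Algebra.QuasiFinite A B := by
  classical
  let k := ResidueField A
  let I := (maximalIdeal A).map (algebraMap A B)
  have hI : I ≤ maximalIdeal B := by
    refine Ideal.map_le_iff_le_comap.2 fun x hx => ?_
    exact map_nonunit (algebraMap A B) x hx
  haveI : Nontrivial (B ⧸ I) := Ideal.Quotient.nontrivial_iff.2 fun e => (maximalIdeal.isMaximal B).ne_top (top_le_iff.1 (e ▸ hI))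
  haveI : IsLocalRing (B ⧸ I) := IsLocalRing.of_surjective' (Ideal.Quotient.mk I) Ideal.Quotient.mk_surjective
  letI : Algebra k (B ⧸ I) := (Ideal.quotientMap I (algebraMap A B) Ideal.le_comap_map).toAlgebra
  haveI : IsScalarTower A k (B ⧸ I) := IsScalarTower.of_algebraMap_eq fun x => rfl
  haveI : IsLocalHom (Ideal.Quotient.mk I) := IsLocalHom.of_surjective _ Ideal.Quotient.mk_surjective
  let φ := IsLocalRing.ResidueField.map (Ideal.Quotient.mk I)
  haveI : IsScalarTower k (B ⧸ I) (ResidueField (B ⧸ I)) := inferInstance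
  haveI : Module.Finite k (ResidueField (B ⧸ I)) := by
    let ψ : ResidueField B →ₗ[k] ResidueField (B ⧸ I) :=
      { toFun := φ
        map_add' := map_add φ
        map_smul' := fun c x => by
          obtain ⟨c, rfl⟩ := IsLocalRing.residue_surjective c
          obtain ⟨x, rfl⟩ := IsLocalRing.residue_surjective x
          rw [Algebra.smul_def, map_mul, RingHom.id_apply, Algebra.smul_def]
          rfl }
    refine Module.Finite.of_surjective ψ fun y => ?_
    obtain ⟨y, rfl⟩ := IsLocalRing.residue_surjective y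
    obtain ⟨y, rfl⟩ := Ideal.Quotient.mk_surjective y
    exact ⟨residue B y, rfl⟩
  haveI := h
  have hfl : IsFiniteLength (B ⧸ I) (B ⧸ I) :=
    isFiniteLength_iff_isNoetherian_isArtinian.2 ⟨inferInstance, inferInstance⟩
  haveI : Module.Finite k (B ⧸ I) := CKaehlerFree3.finite_of_isFiniteLength (B ⧸ I) hfl
  haveI : Module.Finite A (B ⧸ I) := Module.Finite.trans k _
  -- `B` is a localisation of a finite type algebra at a prime
  let C := Algebra.EssFiniteType.subalgebra A B
  let q : Ideal C := (maximalIdeal B).comap (algebraMap C B)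
  have hM : Algebra.EssFiniteType.submonoid A B = q.primeCompl := by
    ext x
    show IsUnit (algebraMap C B x) ↔ ¬ algebraMap C B x ∈ maximalIdeal B
    exact (IsLocalRing.notMem_maximalIdeal).symm
  haveI : IsLocalization q.primeCompl B := hM ▸ Algebra.EssFiniteType.isLocalization A B
  let e : Localization.AtPrime q ≃ₐ[A] B := (IsLocalization.algEquiv q.primeCompl _ B).restrictScalars A
  have hq : q.under A = maximalIdeal A := by
    rw [Ideal.under, Ideal.comap_comap, ← IsScalarTower.algebraMap_eq]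
    ext x
    rw [Ideal.mem_comap, mem_maximalIdeal, mem_maximalIdeal, mem_nonunits_iff, mem_nonunits_iff,
      isUnit_map_iff]
  haveI : Algebra.WeaklyQuasiFiniteAt A q := by
    rw [Algebra.weaklyQuasiFiniteAt_iff, hq]
    refine (Algebra.QuasiFinite.iff_of_algEquiv (Ideal.quotientEquivAlg _ I e ?_)).2 inferInstance
    show I = Ideal.map e.toAlgHom.toRingHom _
    rw [Ideal.map_map, AlgHom.toRingHom_eq_coe, AlgHom.comp_algebraMap]
  haveI : Algebra.QuasiFiniteAt A q := Algebra.QuasiFiniteAt.of_weaklyQuasiFiniteAt q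
  exact Algebra.QuasiFinite.of_surjective_algHom e.toAlgHom e.surjective

omit [IsNoetherianRing A] [Module.Finite (ResidueField A) (ResidueField B)] in
theorem exists_bigger [IsNoetherianRing B] [IsDomain B] (hm : (maximalIdeal A).map (algebraMap A B) ≠ ⊥)
    (hna : ¬ IsArtinianRing (B ⧸ (maximalIdeal A).map (algebraMap A B))) (g : B) (hg : g ≠ 0) :
    ∃ Q : Ideal B, Q.IsPrime ∧ Q ≠ ⊥ ∧ g ∉ Q ∧ ¬ (maximalIdeal A).map (algebraMap A B) ≤ Q := by
  classical
  let I := (maximalIdeal A).map (algebraMap A B)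
  have hI : I ≤ maximalIdeal B := by
    refine Ideal.map_le_iff_le_comap.2 fun x hx => ?_
    exact map_nonunit (algebraMap A B) x hx
  have hnot : maximalIdeal B ∉ I.minimalPrimes := fun hmin => by
    refine hna ?_
    haveI : Nontrivial (B ⧸ I) :=
      Ideal.Quotient.nontrivial_iff.2 fun e => (maximalIdeal.isMaximal B).ne_top (top_le_iff.1 (e ▸ hI))
    haveI : IsLocalRing (B ⧸ I) := IsLocalRing.of_surjective' (Ideal.Quotient.mk I) Ideal.Quotient.mk_surjective
    haveI : Ring.KrullDimLE 0 (B ⧸ I) := by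
     refine Ring.krullDimLE_zero_iff.2 fun P hP => ?_
     have h1 : I ≤ P.comap (Ideal.Quotient.mk I) := by
       intro x hx
       rw [Ideal.mem_comap, Ideal.Quotient.eq_zero_iff_mem.2 hx]
       exact P.zero_mem
     have h2 := hmin.2 ⟨hP.comap (Ideal.Quotient.mk I), h1⟩
       (IsLocalRing.le_maximalIdeal (hP.comap (Ideal.Quotient.mk I)).ne_top)
     have h3 : P.comap (Ideal.Quotient.mk I) = maximalIdeal B :=
       le_antisymm (IsLocalRing.le_maximalIdeal (hP.comap (Ideal.Quotient.mk I)).ne_top) h2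
     have h4 : (P.comap (Ideal.Quotient.mk I)).map (Ideal.Quotient.mk I) = P :=
       Ideal.map_comap_of_surjective _ Ideal.Quotient.mk_surjective P
     rw [← h4, h3]
     exact (Ideal.map_eq_top_or_isMaximal_of_surjective _ Ideal.Quotient.mk_surjective
       (maximalIdeal.isMaximal B)).resolve_left (by rw [← h3, h4]; exact hP.ne_top)
    exact IsNoetherianRing.isArtinianRing_of_krullDimLE_zero
  let J := Ideal.span {g}
  have hJ : ∀ P ∈ J.minimalPrimes, P.height ≤ 1 := fun P hP =>
    Ideal.height_le_one_of_isPrincipal_of_mem_minimalPrimes _ _ hP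
  have hnotJ : maximalIdeal B ∉ J.minimalPrimes := fun hmin => by
    have h1 := hJ _ hmin
    obtain ⟨P, hP, hPm⟩ := Ideal.exists_minimalPrimes_le hI
    haveI := hP.1.1
    have hlt : P < maximalIdeal B := lt_of_le_of_ne hPm fun e => hnot (e ▸ hP)
    have h2 := Ideal.height_strict_mono_of_isPrime hlt
    have hP0 : (⊥ : Ideal B) < P :=
      bot_lt_iff_ne_bot.2 fun e => hm (le_bot_iff.1 (e ▸ hP.1.2))
    have h3 := Ideal.height_strict_mono_of_isPrime hP0
    have h4 : (1 : ℕ∞) ≤ P.height := Order.one_le_iff_pos.2 (lt_of_le_of_lt bot_le h3)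
    exact absurd (h2.trans_le h1) (not_lt.2 h4)
  have hfin : (I.minimalPrimes ∪ J.minimalPrimes).Finite :=
    (Ideal.finite_minimalPrimes_of_isNoetherianRing B I).union (Ideal.finite_minimalPrimes_of_isNoetherianRing B J)
  obtain ⟨f, hfm, hf⟩ : ∃ f ∈ maximalIdeal B, ∀ P ∈ I.minimalPrimes ∪ J.minimalPrimes, f ∉ P := by
    by_contra hne
    push Not at hne
    obtain ⟨P, hP, hle⟩ := (Ideal.subset_union_prime_finite hfin ⊥ ⊥ (f := id) (I := maximalIdeal B) (fun P hP _ _ =>
      hP.elim (fun h => h.1.1) (fun h => h.1.1))).1 (fun x hx => by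
        obtain ⟨P, hP, hxP⟩ := hne x hx
        exact Set.mem_biUnion hP hxP)
    haveI : P.IsPrime := hP.elim (fun h => h.1.1) (fun h => h.1.1)
    have : P = maximalIdeal B := le_antisymm (IsLocalRing.le_maximalIdeal this.ne_top) hle
    subst this
    exact hP.elim hnot hnotJ
  have hf0 : f ≠ 0 := fun e => by
    obtain ⟨P, hP, -⟩ := Ideal.exists_minimalPrimes_le hI
    exact hf P (Or.inl hP) (e ▸ P.zero_mem)
  obtain ⟨Q, hQ, -⟩ := Ideal.exists_minimalPrimes_le ((Ideal.span_singleton_le_iff_mem _).2 hfm)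
  have hfQ : f ∈ Q := hQ.1.2 (Ideal.mem_span_singleton_self f)
  haveI := hQ.1.1
  have hQ1 := Ideal.height_le_one_of_isPrincipal_of_mem_minimalPrimes _ _ hQ
  have key : ∀ K : Ideal B, K ≠ ⊥ → K ≤ Q → Q ∈ K.minimalPrimes := fun K hK hKQ => by
    obtain ⟨P, hP, hPQ⟩ := Ideal.exists_minimalPrimes_le hKQ
    haveI := hP.1.1
    rcases eq_or_lt_of_le hPQ with h | h
    · exact h ▸ hP
    · exfalso
      have h2 := Ideal.height_strict_mono_of_isPrime h
      have h3 := Ideal.height_strict_mono_of_isPrime (bot_lt_iff_ne_bot.2 (fun e => hK (le_bot_iff.1 (e ▸ hP.1.2))) : (⊥ : Ideal B) < P)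
      have h4 : (1 : ℕ∞) ≤ P.height := Order.one_le_iff_pos.2 (lt_of_le_of_lt bot_le h3)
      exact absurd (h2.trans_le hQ1) (not_lt.2 h4)
  refine ⟨Q, hQ.1.1, fun e => hf0 (Ideal.mem_bot.1 (e ▸ hfQ)), fun hgQ => ?_, fun hIQ => ?_⟩
  · exact hf Q (Or.inr (key J (by simpa [J] using hg) ((Ideal.span_singleton_le_iff_mem _).2 hgQ))) hfQ
  · exact hf Q (Or.inl (key I hm hIQ)) hfQ

end Groth.Agent.QFQuot4
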