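import Groth.Agent.S1394
import Groth.Agent.Lib.FtPts3.Basic
import Groth.Agent.Lib.RedSep.Basic
import Mathlib.AlgebraicGeometry.Morphisms.QuasiFinite
import Mathlib.AlgebraicGeometry.FunctionField

/-!
# Closed subschemes quasi-finite at a closed point of a fibre
-/

universe u

open CategoryTheory AlgebraicGeometry TopologicalSpace

set_option backward.isDefEq.respectTransparency.types false

namespace Groth.Agent.QFQuot4

variable {X S : Scheme.{u}} (f : X ⟶ S)

theorem finite_residueFieldMap_of_closed_in_fibre [LocallyOfFiniteType f] (x : X)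
    (hcl : IsClosed (Subtype.val ⁻¹' {x} : Set ↑(f ⁻¹' {f x}))) :
    (f.residueFieldMap x).hom.Finite := by
  haveI : IsPreimmersion (f.asFiberHom x ≫ f.fiberι (f x)) := by
    rw [Scheme.Hom.asFiberHom_fiberι]; infer_instance
  haveI : IsPreimmersion (f.asFiberHom x) := IsPreimmersion.of_comp _ (f.fiberι (f x))
  have hc : IsClosed (Set.range (f.asFiberHom x)) := by
    rw [Scheme.Hom.range_asFiberHom]
    have he : ({f.asFiber x} : Set (f.fiber (f x))) =
        (f.fiberHomeo (f x)) ⁻¹' (Subtype.val ⁻¹' {x}) := by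
      ext y
      constructor
      · rintro rfl
        show ((f.fiberHomeo (f x)) (f.asFiber x)).1 = x
        simp [Scheme.Hom.asFiber]
      · intro hy
        exact (f.fiberHomeo (f x)).injective (Subtype.ext (by
          simpa [Scheme.Hom.asFiber] using hy))
    rw [he]
    exact hcl.preimage (f.fiberHomeo (f x)).continuous
  haveI : IsClosedImmersion (f.asFiberHom x) := IsClosedImmersion.of_isPreimmersion _ hc
  haveI : LocallyOfFiniteType (f.fiberToSpecResidueField (f x)) :=
    MorphismProperty.pullback_snd _ _ inferInstance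
  haveI : LocallyOfFiniteType (Spec.map (f.residueFieldMap x)) := by
    rw [← Scheme.Hom.asFiberHom_fiberToSpecResidueField]; infer_instance
  have h : (f.residueFieldMap x).hom.FiniteType :=
    (HasRingHomProperty.Spec_iff (P := @LocallyOfFiniteType)).1 inferInstance
  algebraize [(f.residueFieldMap x).hom]
  exact finite_of_finite_type_of_isJacobsonRing _ _

/-- A reduced irreducible closed subscheme is quasi-finite at a point when the prime of its generic
point has quasi-finite quotient. -/
theorem quasiFiniteAt_of_quotient (I : X.IdealSheafData) [IsReduced I.subscheme] {z : X}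
    (hr : Set.range I.subschemeι = closure {z}) (z₀ x₀ : I.subscheme) (hz₀ : I.subschemeι z₀ = z)
    (q : Spec (X.presheaf.stalk (I.subschemeι x₀))) (hq0 : X.fromSpecStalk (I.subschemeι x₀) q = z)
    (hqf : letI := (f.stalkMap (I.subschemeι x₀)).hom.toAlgebra
      Algebra.QuasiFinite (S.presheaf.stalk (f (I.subschemeι x₀)))
        (X.presheaf.stalk (I.subschemeι x₀) ⧸ q.asIdeal)) :
    (I.subschemeι ≫ f).QuasiFiniteAt x₀ := by
  have hred : IsReduced I.subscheme := inferInstance
  let j := I.subschemeι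
  have hgen : ∀ y, z₀ ⤳ y := fun y => j.isEmbedding.isInducing.specializes_iff.1 (by
    rw [hz₀, specializes_iff_mem_closure, ← hr]; exact ⟨y, rfl⟩)
  haveI : IrreducibleSpace I.subscheme := by
    refine { toNonempty := ⟨z₀⟩, isPreirreducible_univ := ?_ }
    rintro u v hu hv ⟨a, -, ha⟩ ⟨b, -, hb⟩
    exact ⟨z₀, trivial, (hgen a).mem_open hu ha, (hgen b).mem_open hv hb⟩
  haveI : IsIntegral I.subscheme := isIntegral_of_irreducibleSpace_of_isReduced _
  let A := S.presheaf.stalk (f (I.subschemeι x₀))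
  let B := X.presheaf.stalk (I.subschemeι x₀)
  letI : Algebra A B := (f.stalkMap (I.subschemeι x₀)).hom.toAlgebra
  haveI : Algebra.QuasiFinite A (B ⧸ q.asIdeal) := hqf
  -- the stalk of the subscheme is a quotient of `B ⧸ q`
  have hle : ∀ b ∈ q.asIdeal, j.stalkMap x₀ b = 0 := fun b hb => by
    have hsp : z₀ ⤳ x₀ := hgen _
    have hinj : Function.Injective (I.subscheme.presheaf.stalkSpecializes hsp) := by
      have hz₀g : z₀ = genericPoint I.subscheme :=
        ((genericPoint_spec I.subscheme).specializes trivial |>.antisymm (hgen _)).eq.symm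
      subst hz₀g
      exact IsFractionRing.injective (I.subscheme.presheaf.stalk x₀) I.subscheme.functionField
    apply hinj
    rw [map_zero]
    have hnat := Scheme.Hom.stalkSpecializes_stalkMap j z₀ x₀ hsp
    have hnat' := congr($hnat b)
    rw [CommRingCat.comp_apply, CommRingCat.comp_apply] at hnat'
    rw [← hnat']
    haveI hfld : IsField (I.subscheme.presheaf.stalk z₀) := by
      have hz₀g : z₀ = genericPoint I.subscheme :=
        ((genericPoint_spec I.subscheme).specializes trivial |>.antisymm (hgen _)).eq.symm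
      subst hz₀g
      exact Field.toIsField I.subscheme.functionField
    refine Ideal.mem_bot.1 ((IsLocalRing.isField_iff_maximalIdeal_eq (R := I.subscheme.presheaf.stalk z₀)).1 hfld ▸ ?_)
    refine map_nonunit (j.stalkMap z₀).hom _ ?_
    intro hu
    have hspz : j z₀ ⤳ j x₀ := hsp.map j.continuous
    have hq : q.asIdeal = (IsLocalRing.maximalIdeal (X.presheaf.stalk (j z₀))).comap
        (X.presheaf.stalkSpecializes hspz).hom := by
      have h1 : Spec.map (X.presheaf.stalkSpecializes hspz) (IsLocalRing.closedPoint _) = q := by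
        refine (X.fromSpecStalk (j x₀)).isEmbedding.injective ?_
        rw [← Scheme.Hom.comp_apply, Scheme.SpecMap_stalkSpecializes_fromSpecStalk,
          Scheme.fromSpecStalk_closedPoint]
        exact hz₀.trans hq0.symm
      exact (congrArg PrimeSpectrum.asIdeal h1).symm
    rw [hq, Ideal.mem_comap] at hb
    exact hb hu
  let l : B ⧸ q.asIdeal →ₐ[A] (B ⧸ RingHom.ker (j.stalkMap x₀).hom) :=
    Ideal.Quotient.factorₐ A fun b hb => hle b hb
  haveI : Algebra.QuasiFinite A (B ⧸ RingHom.ker (j.stalkMap x₀).hom) :=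
    Algebra.QuasiFinite.of_surjective_algHom l (Ideal.Quotient.factor_surjective (fun b hb => hle b hb))
  rw [Scheme.Hom.QuasiFiniteAt, Scheme.Hom.stalkMap_comp]
  show RingHom.QuasiFinite ((j.stalkMap x₀).hom.comp (f.stalkMap (j x₀)).hom)
  letI : Algebra A (I.subscheme.presheaf.stalk x₀) := ((j.stalkMap x₀).hom.comp (f.stalkMap (j x₀)).hom).toAlgebra
  let σ : B →ₐ[A] I.subscheme.presheaf.stalk x₀ := { (j.stalkMap x₀).hom with commutes' := fun _ => rfl }
  have hs : Function.Surjective σ := j.stalkMap_surjective x₀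
  show Algebra.QuasiFinite A (I.subscheme.presheaf.stalk x₀)
  exact (Algebra.QuasiFinite.iff_of_algEquiv (Ideal.quotientKerAlgEquivOfSurjective hs)).1
    (inferInstanceAs (Algebra.QuasiFinite A (B ⧸ RingHom.ker (j.stalkMap x₀).hom)))

theorem quasiFiniteAt_of_quotient' (I : X.IdealSheafData) [IsReduced I.subscheme] {x z : X}
    (hr : Set.range I.subschemeι = closure {z}) (z₀ x₀ : I.subscheme) (hz₀ : I.subschemeι z₀ = z)
    (hx₀ : I.subschemeι x₀ = x) (q : Spec (X.presheaf.stalk x)) (hq0 : X.fromSpecStalk x q = z)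
    (hqf : letI := (f.stalkMap x).hom.toAlgebra
      Algebra.QuasiFinite (S.presheaf.stalk (f x)) (X.presheaf.stalk x ⧸ q.asIdeal)) :
    (I.subschemeι ≫ f).QuasiFiniteAt x₀ := by
  subst hx₀
  exact quasiFiniteAt_of_quotient f I hr z₀ x₀ hz₀ q hq0 hqf

theorem exists_qf_subscheme [LocallyOfFiniteType f] [IsLocallyNoetherian S] (x : X)
    (hcl : IsClosed (Subtype.val ⁻¹' {x} : Set ↑(f ⁻¹' {f x}))) (U : X.Opens)
    (hx' : ∃ x' : X, x' ∈ U ∧ x' ⤳ x ∧ f x' ≠ f x) :
    ∃ (I : X.IdealSheafData) (z₀ x₀ : ↑I.subscheme), I.subschemeι x₀ = x ∧ (I.subschemeι ≫ f).QuasiFiniteAt x₀ ∧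
      I.subschemeι z₀ ∈ U ∧ I.subschemeι z₀ ⤳ x ∧ f (I.subschemeι z₀) ≠ f x := by
  obtain ⟨x', hx'U, hspec, hne⟩ := hx'
  let A := S.presheaf.stalk (f x)
  let B := X.presheaf.stalk x
  letI : Algebra A B := (f.stalkMap x).hom.toAlgebra
  haveI : IsLocalHom (algebraMap A B) := inferInstanceAs (IsLocalHom (f.stalkMap x).hom)
  haveI : Algebra.EssFiniteType A B := LocallyOfFiniteType.stalkMap f x
  haveI : Module.Finite (IsLocalRing.ResidueField A) (IsLocalRing.ResidueField B) :=
    RingHom.finite_algebraMap.1 (finite_residueFieldMap_of_closed_in_fibre f x hcl)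
  let ξ := X.fromSpecStalk x
  have hf : ∀ q, f (ξ q) = S.fromSpecStalk (f x) (Spec.map (f.stalkMap x) q) := fun q => by
    rw [← Scheme.Hom.comp_apply, ← Scheme.Hom.comp_apply, Scheme.SpecMap_stalkMap_fromSpecStalk]
  have hiff : ∀ q : Spec B, f (ξ q) ≠ f x ↔
      q.asIdeal.comap (algebraMap A B) ≠ IsLocalRing.maximalIdeal A := fun q => by
    refine not_congr ?_
    rw [hf]
    constructor
    · intro h
      have h' : Spec.map (f.stalkMap x) q = IsLocalRing.closedPoint A :=
        (S.fromSpecStalk (f x)).isEmbedding.injective (h.trans Scheme.fromSpecStalk_closedPoint.symm)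
      exact congrArg PrimeSpectrum.asIdeal h'
    · intro h
      rw [show Spec.map (f.stalkMap x) q = IsLocalRing.closedPoint A from PrimeSpectrum.ext h,
        Scheme.fromSpecStalk_closedPoint]
  obtain ⟨q', rfl⟩ : x' ∈ Set.range ξ := by rw [Scheme.range_fromSpecStalk]; exact hspec
  obtain ⟨q, hqU, hqm, hqf⟩ := S1394.result (A := A) (B := B) (ξ ⁻¹' U) (U.2.preimage ξ.continuous)
    ⟨q', hx'U, (hiff q').1 hne⟩
  let z : X := ξ q
  let C : Closeds X := ⟨closure {z}, isClosed_closure⟩
  let I := Scheme.IdealSheafData.vanishingIdeal C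
  have hr : Set.range I.subschemeι = closure {z} := by
    rw [Scheme.IdealSheafData.range_subschemeι, Scheme.IdealSheafData.coe_support_vanishingIdeal]
    rfl
  obtain ⟨z₀, hz₀⟩ := hr.ge (subset_closure (Set.mem_singleton z))
  have hzx : z ⤳ x := by
    have : z ∈ Set.range ξ := ⟨q, rfl⟩
    rwa [Scheme.range_fromSpecStalk] at this
  obtain ⟨x₀, hx₀⟩ := hr.ge (specializes_iff_mem_closure.1 hzx)
  refine ⟨I, z₀, x₀, hx₀, ?_, ?_, ?_, ?_⟩
  · haveI : IsReduced I.subscheme := RedSepLib.isReduced_vanishingIdeal_subscheme _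
    exact quasiFiniteAt_of_quotient' f I hr z₀ x₀ hz₀ hx₀ q rfl hqf
  · rw [hz₀]; exact hqU
  · rw [hz₀]; exact hzx
  · rw [hz₀]; exact (hiff q).2 hqm

end Groth.Agent.QFQuot4
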